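import Mathlib
import Groth.Agent.Lib.Helper18.Insep.PowLength
import Groth.Agent.Lib.Helper18.MinLen.LocIso
import Groth.Agent.Lib.Helper18.MinLen.Main

/-!
# The multiplicities of `L ⊗[k] K` divide the inseparable degree

For a finite extension `L / k` and an arbitrary extension `K / k`, the length of the localization of
`L ⊗[k] K` at any prime divides the inseparable degree of `L / k`.
-/

set_option autoImplicit false
set_option linter.style.haveILetI false
universe u
open TensorProduct

namespace Groth.Agent.Lib.Helper18.GalCyc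

open Groth.Agent.Lib.Helper18.MinLen

section setup

variable (k K E L : Type u) [Field k] [Field K] [Field E] [Field L]
  [Algebra k K] [Algebra k E] [Algebra k L] [Algebra E L] [IsScalarTower k E L]

attribute [local instance] Algebra.TensorProduct.rightAlgebra in
theorem length_atPrime_dvd_aux [FiniteDimensional E L] [IsPurelyInseparable E L]
    (q : Ideal (L ⊗[k] K)) [q.IsPrime] (q₀ : Ideal (E ⊗[k] K)) [q₀.IsPrime]
    (hq₀ : q₀ = q.comap (cmp k K E L).toRingHom)
    (F : Type u) [Field F] [Algebra (E ⊗[k] K) F] [IsLocalization.AtPrime F q₀] :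
    ∃ m : ℕ, Module.length (Localization.AtPrime q) (Localization.AtPrime q) = m ∧
      m ∣ Module.finrank E L := by
  letI algRT : Algebra (E ⊗[k] K) (L ⊗[k] K) := (cmp k K E L).toRingHom.toAlgebra
  haveI : IsScalarTower E (E ⊗[k] K) (L ⊗[k] K) :=
    .of_algebraMap_eq (fun x => ((cmp k K E L).commutes x).symm)
  have H : (algebraMap (E ⊗[k] K) (L ⊗[k] K)).comp Algebra.TensorProduct.includeRight.toRingHom =
      Algebra.TensorProduct.includeRight.toRingHom := by
    ext x
    show cmp k K E L ((1 : E) ⊗ₜ x) = (1 : L) ⊗ₜ x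
    simp
  have hpo : Algebra.IsPushout E L (E ⊗[k] K) (L ⊗[k] K) :=
    Algebra.IsPushout.tensorProduct_tensorProduct k K E L H
  haveI hpo' : Algebra.IsPushout E (E ⊗[k] K) L (L ⊗[k] K) := hpo.symm
  -- `F` as an `E`-algebra
  letI algEF : Algebra E F := ((algebraMap (E ⊗[k] K) F).comp (algebraMap E (E ⊗[k] K))).toAlgebra
  haveI : IsScalarTower E (E ⊗[k] K) F := .of_algebraMap_eq (fun _ => rfl)
  -- the target ring
  haveI : IsScalarTower E (E ⊗[k] K) (F ⊗[E] L) := inferInstance
  let f : (E ⊗[k] K) →ₐ[E] (F ⊗[E] L) := IsScalarTower.toAlgHom E (E ⊗[k] K) (F ⊗[E] L)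
  let g : L →ₐ[E] (F ⊗[E] L) := IsScalarTower.toAlgHom E L (F ⊗[E] L)
  let ψ : (L ⊗[k] K) →ₐ[E] (F ⊗[E] L) :=
    Algebra.pushoutDesc (L ⊗[k] K) f g (fun x y => mul_comm _ _)
  letI algTT' : Algebra (L ⊗[k] K) (F ⊗[E] L) := ψ.toRingHom.toAlgebra
  haveI : IsScalarTower (E ⊗[k] K) (L ⊗[k] K) (F ⊗[E] L) :=
    .of_algebraMap_eq (fun x => (Algebra.pushoutDesc_left (L ⊗[k] K) f g _ x).symm)
  haveI : IsScalarTower L (L ⊗[k] K) (F ⊗[E] L) :=
    .of_algebraMap_eq (fun x => (Algebra.pushoutDesc_right (L ⊗[k] K) f g _ x).symm)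
  haveI : IsScalarTower E (L ⊗[k] K) (F ⊗[E] L) :=
    .of_algebraMap_eq (fun x => (ψ.commutes x).symm)
  have hpo2 : Algebra.IsPushout (E ⊗[k] K) F (L ⊗[k] K) (F ⊗[E] L) :=
    (Algebra.IsPushout.comp_iff E (E ⊗[k] K) L (S' := L ⊗[k] K) (T := F)
      (T' := F ⊗[E] L)).1 inferInstance
  haveI hloc : IsLocalization (Algebra.algebraMapSubmonoid (L ⊗[k] K) q₀.primeCompl)
      (F ⊗[E] L) :=
    (Algebra.isLocalization_iff_isPushout q₀.primeCompl F).2 hpo2.symm
  haveI := Groth.Agent.Lib.Helper18.InsepLen.subsingleton_left E L F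
  haveI : IsLocalization.AtPrime (F ⊗[E] L) q :=
    isLocalization_atPrime_of_nil q q₀ hq₀
      (fun x hx => Groth.Agent.Lib.Helper18.InsepLen.isNilpotent_of_not_isUnit hx)
  rw [length_atPrime_of_isLocalization (T' := F ⊗[E] L) q]
  haveI := Groth.Agent.Lib.Helper18.InsepLen.isLocalRing_left E L F
  haveI : IsLocalHom (algebraMap F (F ⊗[E] L)) := by
    haveI : Subsingleton (PrimeSpectrum F) := inferInstance
    exact Groth.Agent.Lib.Helper18.InsepLen.isLocalHom_of_subsingleton _
  have h1 := IsLocalRing.length_restrictScalars F (F ⊗[E] L) (F ⊗[E] L)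
  have h2 : Module.length F (F ⊗[E] L) = ((Module.finrank E L : ℕ) : ℕ∞) := by
    rw [Module.length_eq_finrank, Module.finrank_baseChange]
  rw [h2] at h1
  exact Groth.Agent.Lib.Helper18.InsepLen.enat_dvd_of_mul_eq _ _ _ Module.finrank_pos.ne' h1.symm

theorem length_atPrime_dvd_of_isReduced [FiniteDimensional E L]
    [IsPurelyInseparable E L] [IsReduced (E ⊗[k] K)]
    (q : Ideal (L ⊗[k] K)) [q.IsPrime] (hq : q ∈ minimalPrimes (L ⊗[k] K)) :
    ∃ m : ℕ, Module.length (Localization.AtPrime q) (Localization.AtPrime q) = m ∧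
      m ∣ Module.finrank E L := by
  letI algRT : Algebra (E ⊗[k] K) (L ⊗[k] K) := (cmp k K E L).toRingHom.toAlgebra
  haveI : IsScalarTower E (E ⊗[k] K) (L ⊗[k] K) :=
    .of_algebraMap_eq (fun x => ((cmp k K E L).commutes x).symm)
  have H : (algebraMap (E ⊗[k] K) (L ⊗[k] K)).comp Algebra.TensorProduct.includeRight.toRingHom =
      Algebra.TensorProduct.includeRight.toRingHom := by
    ext x
    show cmp k K E L ((1 : E) ⊗ₜ x) = (1 : L) ⊗ₜ x
    simp
  have hpo : Algebra.IsPushout E L (E ⊗[k] K) (L ⊗[k] K) :=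
    Algebra.IsPushout.tensorProduct_tensorProduct k K E L H
  have hpo' : Algebra.IsPushout E (E ⊗[k] K) L (L ⊗[k] K) := hpo.symm
  haveI : Module.Flat (E ⊗[k] K) (L ⊗[k] K) :=
    Module.Flat.isBaseChange E (E ⊗[k] K) L (L ⊗[k] K) hpo'.out
  let q₀ : Ideal (E ⊗[k] K) := q.comap (algebraMap (E ⊗[k] K) (L ⊗[k] K))
  haveI hq₀p : q₀.IsPrime := Ideal.comap_isPrime _ _
  have hq₀ : q₀ ∈ minimalPrimes (E ⊗[k] K) := by
    refine ⟨⟨hq₀p, bot_le⟩, fun p' hp' hle => ?_⟩
    haveI := hp'.1
    haveI : q.LiesOver q₀ := ⟨rfl⟩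
    obtain ⟨P, hPq, hP, hPp'⟩ := Ideal.exists_ideal_le_liesOver_of_le (p := p') (q := q₀) q hle
    have hqP : q ≤ P := hq.2 ⟨hP, bot_le⟩ hPq
    have hPeq : P = q := le_antisymm hPq hqP
    rw [hPp'.over, hPeq]
  haveI : Ring.KrullDimLE 0 (Localization.AtPrime q₀) :=
    .of_isLocalization q₀ hq₀ (Localization.AtPrime q₀)
  letI : Field (Localization.AtPrime q₀) := Ring.KrullDimLE.isField_of_isReduced.toField
  exact length_atPrime_dvd_aux k K E L q q₀ rfl (Localization.AtPrime q₀)

end setup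

/-- `E ⊗[k] K` is reduced for a finite separable extension `E / k`. -/
theorem isReduced_tensor_of_isSeparable (k K E : Type u) [Field k] [Field K] [Field E]
    [Algebra k K] [Algebra k E] [FiniteDimensional k E] [Algebra.IsSeparable k E] :
    IsReduced (E ⊗[k] K) := by
  haveI : Algebra.FormallyUnramified k E := Algebra.FormallyUnramified.of_isSeparable k E
  haveI : Algebra.FormallyUnramified K (K ⊗[k] E) := inferInstance
  haveI : Algebra.EssFiniteType K (K ⊗[k] E) := inferInstance
  haveI hred : IsReduced (K ⊗[k] E) :=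
    Algebra.FormallyUnramified.isReduced_of_field K (K ⊗[k] E)
  exact isReduced_of_injective (Algebra.TensorProduct.comm k E K).toRingEquiv.toRingHom
    (Algebra.TensorProduct.comm k E K).injective

/-- Every prime of `L ⊗[k] K` is minimal for a finite extension `L / k`. -/
theorem mem_minimalPrimes_tensor (k K L : Type u) [Field k] [Field K] [Field L]
    [Algebra k K] [Algebra k L] [FiniteDimensional k L] (q : Ideal (L ⊗[k] K)) [q.IsPrime] :
    q ∈ minimalPrimes (L ⊗[k] K) := by
  haveI : IsArtinianRing (K ⊗[k] L) := IsArtinianRing.of_finite K (K ⊗[k] L)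
  haveI : IsArtinianRing (L ⊗[k] K) :=
    (Algebra.TensorProduct.comm k K L).toRingEquiv.surjective.isArtinianRing
  rw [Ring.KrullDimLE.minimalPrimes_eq_setOf_isPrime]
  exact ‹q.IsPrime›

/-- **The multiplicities of `L ⊗[k] K` divide the inseparable degree of `L / k`.** -/
theorem length_atPrime_dvd (k K L : Type u) [Field k] [Field K] [Field L]
    [Algebra k K] [Algebra k L] [FiniteDimensional k L] (q : Ideal (L ⊗[k] K)) [q.IsPrime] :
    ∃ m : ℕ, Module.length (Localization.AtPrime q) (Localization.AtPrime q) = m ∧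
      m ∣ Field.finInsepDegree k L := by
  let E : IntermediateField k L := separableClosure k L
  haveI : IsPurelyInseparable E L := separableClosure.isPurelyInseparable k L
  haveI : Algebra.IsSeparable k E := separableClosure.isSeparable k L
  haveI : FiniteDimensional k E := inferInstance
  haveI : FiniteDimensional E L := inferInstance
  haveI : IsScalarTower k E L := IsScalarTower.of_algebraMap_eq (fun x => rfl)
  haveI : IsReduced (E ⊗[k] K) := isReduced_tensor_of_isSeparable k K E
  exact length_atPrime_dvd_of_isReduced k K E L q (mem_minimalPrimes_tensor k K L q)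

end Groth.Agent.Lib.Helper18.GalCyc
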