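import Mathlib
import Groth.Prelude.Def_Cyc
import Groth.Agent.Lib.Helper18.GalCyc.Dvd
import Groth.Agent.Lib.Helper18.GalFibre
import Groth.Agent.Lib.Helper18.Aff.FibModel
import Groth.Agent.Lib.Helper18.Cyc.FibreMax
import Groth.Agent.Lib.Helper18.Push.BCDeg

/-!
# Fibre lengths of a finite base field extension
-/

set_option autoImplicit false
set_option linter.style.haveILetI false
universe u
open AlgebraicGeometry CategoryTheory Limits IsLocalRing TensorProduct

namespace Groth.Agent.Lib.Helper18.GalCyc

open Groth.Agent.Lib.Helper18.CycPull Groth.Agent.Lib.Helper18.Push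
  Groth.Agent.Lib.Helper18.AffFib Groth.Agent.Lib.Helper18.GalFibre

section fibre

variable (k : Type u) [Field k] (k' : Type u) [Field k'] [Algebra k k'] {X : Scheme.{u}}
  (f : X ⟶ Spec (CommRingCat.of k))

attribute [local instance] Algebra.TensorProduct.rightAlgebra

/-- The fibre of the base change to `k'` over a point `x` is the spectrum of `k' ⊗[k] κ(x)`. -/
theorem exists_fibModel (x : X) :
    ∃ (φ : CommRingCat.of k ⟶ X.residueField x),
      letI := φ.hom.toAlgebra
      ∃ (b : Spec (CommRingCat.of (k' ⊗[k] X.residueField x)) ⟶ pullback f (sK k k')),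
        IsPullback b (Spec.map (CommRingCat.ofHom (algebraMap (X.residueField x)
          (k' ⊗[k] X.residueField x))))
          (pullback.fst f (sK k k')) (X.fromSpecResidueField x) := by
  obtain ⟨φ, hφ⟩ := Spec.map_surjective (X.fromSpecResidueField x ≫ f)
  refine ⟨φ, ?_⟩
  letI algκ : Algebra k (X.residueField x) := φ.hom.toAlgebra
  have hpo := CommRingCat.isPushout_of_isPushout k k' (X.residueField x)
    (k' ⊗[k] X.residueField x)
  have hpb := isPullback_SpecMap_of_isPushout _ _ _ _ hpo
  have hφ' : Spec.map (CommRingCat.ofHom (algebraMap k (X.residueField x))) =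
      X.fromSpecResidueField x ≫ f := hφ
  have hw : (Spec.map (CommRingCat.ofHom (algebraMap (X.residueField x)
      (k' ⊗[k] X.residueField x))) ≫ X.fromSpecResidueField x) ≫ f =
      Spec.map (CommRingCat.ofHom (algebraMap k'
        (k' ⊗[k] X.residueField x))) ≫ sK k k' := by
    rw [Category.assoc, ← hφ']
    exact hpb.w.symm
  refine ⟨pullback.lift _ _ hw, ?_⟩
  refine IsPullback.of_right ?_ (pullback.lift_fst _ _ hw)
    (IsPullback.of_hasPullback f (sK k k')).flip
  rw [pullback.lift_snd, ← hφ']
  exact hpb

/-- The length of the local ring of an affine scheme at a point. -/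
theorem length_stalk_Spec (R : CommRingCat.{u}) (z : Spec R) :
    Module.length ((Spec R).presheaf.stalk z)
      ((Spec R).presheaf.stalk z ⧸ (⊥ : Ideal ((Spec R).presheaf.stalk z))) =
    Module.length (Localization.AtPrime (z : PrimeSpectrum R).asIdeal)
      (Localization.AtPrime (z : PrimeSpectrum R).asIdeal) := by
  rw [(Submodule.quotEquivOfEqBot ⊥ rfl).length_eq]
  letI alg : Algebra R ((Spec R).presheaf.stalk z) := StructureSheaf.stalkAlgebra R z
  haveI : IsLocalization.AtPrime ((Spec R).presheaf.stalk z) (z : PrimeSpectrum R).asIdeal :=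
    StructureSheaf.IsLocalization.to_stalk R z
  exact (Groth.Agent.Lib.Helper18.MinLen.length_atPrime_of_isLocalization
    (T' := (Spec R).presheaf.stalk z) (z : PrimeSpectrum R).asIdeal).symm

/-- **The fibre lengths of the base change to a finite extension divide the inseparable
degree.** -/
theorem fibLen_dvd [FiniteDimensional k k'] (x' : ↥(pullback f (sK k k'))) :
    ∃ m : ℕ, Module.length ((pullback f (sK k k')).presheaf.stalk x')
      ((pullback f (sK k k')).presheaf.stalk x' ⧸
        Ideal.map ((pullback.fst f (sK k k')).stalkMap x').hom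
        (maximalIdeal (X.presheaf.stalk (pullback.fst f (sK k k') x')))) = (m : ℕ∞) ∧
      m ∣ Field.finInsepDegree k k' := by
  obtain ⟨φ, hsq⟩ := exists_fibModel k k' f (pullback.fst f (sK k k') x')
  letI algκ : Algebra k (X.residueField (pullback.fst f (sK k k') x')) := φ.hom.toAlgebra
  obtain ⟨b, sq⟩ := hsq
  have hx'r : x' ∈ Set.range b := by
    rw [range_g sq]
    rfl
  obtain ⟨z, hz⟩ := hx'r
  have h1 := fibLen_eq_of_isPullback sq z
  have h2 := fibLen_eq_of_field _ (Field.toIsField _) (Spec.map (CommRingCat.ofHom (algebraMap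
    (X.residueField (pullback.fst f (sK k k') x'))
    (k' ⊗[k] X.residueField (pullback.fst f (sK k k') x'))))) z
  unfold fibLen fibIdeal at h2
  rw [h2] at h1
  rw [← hz, ← h1, length_stalk_Spec]
  exact length_atPrime_dvd k (X.residueField (pullback.fst f (sK k k') x')) k'
    (z : PrimeSpectrum (k' ⊗[k] X.residueField (pullback.fst f (sK k k') x'))).asIdeal

end fibre

end Groth.Agent.Lib.Helper18.GalCyc
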