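import Mathlib
import Groth.Prelude.Def_Cyc
import Groth.Agent.Lib.Helper18.GalCyc.FibLen

/-!
# Galois descent of cycles along a finite normal extension of the base field
-/

set_option autoImplicit false
set_option linter.style.haveILetI false
universe u
open AlgebraicGeometry CategoryTheory Limits IsLocalRing TensorProduct Topology

namespace Groth.Agent.Lib.Helper18.GalCyc

open Groth.Agent.Lib.Helper18.CycPull Groth.Agent.Lib.Helper18.Push
  Groth.Agent.Lib.Helper18.AffFib Groth.Agent.Lib.Helper18.GalFibre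

section top

/-- Pushing a locally finite support forward along a closed map with finite fibres. -/
theorem locallyFiniteSupport_of_isClosedMap {A B : Type*} [TopologicalSpace A]
    [TopologicalSpace B] (p : A → B) (hp : IsClosedMap p) (hfib : ∀ b, (p ⁻¹' {b}).Finite)
    (g : A → ℤ) (hg : LocallyFiniteSupport g) (h : B → ℤ)
    (hsupp : ∀ b, h b ≠ 0 → ∃ a, p a = b ∧ g a ≠ 0) : LocallyFiniteSupport h := by
  intro z
  choose t ht hfin using hg
  set U' : Set A := ⋃ a ∈ p ⁻¹' {z}, interior (t a) with hU'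
  have hU'o : IsOpen U' := isOpen_biUnion fun a _ => isOpen_interior
  have hfibU : p ⁻¹' {z} ⊆ U' := by
    intro a ha
    exact Set.mem_biUnion ha (mem_interior_iff_mem_nhds.2 (ht a))
  have hU'fin : (U' ∩ Function.support g).Finite := by
    rw [hU', Set.iUnion₂_inter]
    refine Set.Finite.biUnion (hfib z) fun a _ => ?_
    exact (hfin a).subset (Set.inter_subset_inter_left _ interior_subset)
  set V : Set B := (p '' U'ᶜ)ᶜ with hV
  have hVo : IsOpen V := (hp _ hU'o.isClosed_compl).isOpen_compl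
  have hzV : z ∈ V := by
    rintro ⟨a, ha, haz⟩
    exact ha (hfibU haz)
  refine ⟨V, hVo.mem_nhds hzV, ?_⟩
  refine (hU'fin.image p).subset ?_
  rintro b ⟨hbV, hb⟩
  obtain ⟨a, rfl, ha⟩ := hsupp b hb
  refine ⟨a, ⟨?_, ha⟩, rfl⟩
  by_contra haU
  exact hbV ⟨a, haU, rfl⟩

end top

section main

variable {k : Type u} [Field k] {k' : Type u} [Field k'] [Algebra k k'] {X : Scheme.{u}}
  (f : X ⟶ Spec (CommRingCat.of k))

instance isIso_actOf (σ : k' ≃ₐ[k] k') : IsIso (actOf f σ) :=
  ⟨actOf f σ⁻¹, by rw [actOf_mul, mul_inv_cancel, actOf_one],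
    by rw [actOf_mul, inv_mul_cancel, actOf_one]⟩

/-- The fibre length is invariant under the Galois action. -/
theorem fibLen_actOf (σ : k' ≃ₐ[k] k') (x' : ↥(pullback f (sK k k'))) :
    fibLen (pullback.fst f (sK k k')) (actOf f σ x') = fibLen (pullback.fst f (sK k k')) x' := by
  have sq : IsPullback (actOf f σ) (pullback.fst f (sK k k')) (pullback.fst f (sK k k')) (𝟙 X) :=
    IsPullback.of_horiz_isIso ⟨by rw [actOf_fst, Category.comp_id]⟩
  exact (fibLen_eq_of_isPullback sq x').symm

instance surjective_sK : Surjective (sK k k') := by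
  constructor
  intro y
  refine ⟨IsLocalRing.closedPoint k', ?_⟩
  exact Subsingleton.elim (α := PrimeSpectrum k) _ _

instance isFinite_sK [FiniteDimensional k k'] : IsFinite (sK k k') :=
  (IsFinite.SpecMap_iff _).2 (RingHom.finite_algebraMap.2 inferInstance)

theorem main13599 [FiniteDimensional k k'] [Normal k k'] [LocallyOfFiniteType f]
    (Z' : AlgebraicCycle (pullback f (sK k k')) ℤ)
    (hZ' : ∀ (σ : k' ≃ₐ[k] k') (x' : ↥(pullback f (sK k k'))), Z' (actOf f σ x') = Z' x') :
    ∃! Z : AlgebraicCycle X ℤ, ∀ x' : ↥(pullback f (sK k k')),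
      (Field.finInsepDegree k k' : ℤ) * Z' x' =
        Cyc.pullFun (pullback.fst f (sK k k')) (fun _ => 0) (fun _ => 0) 0 ⇑Z x' := by
  classical
  set p := pullback.fst f (sK k k') with hp
  set q : ℕ := Field.finInsepDegree k k' with hq
  have hq0 : q ≠ 0 := by
    rw [hq, Field.finInsepDegree]
    exact Module.finrank_pos.ne'
  -- the fibre lengths
  choose m hm hmq using fibLen_dvd k k' f
  have hm0 : ∀ x', m x' ≠ 0 := fun x' h0 => hq0 (by
    have := hmq x'
    rw [h0] at this
    exact Nat.eq_zero_of_zero_dvd this)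
  have hpull : ∀ (W : X → ℤ) (x' : ↥(pullback f (sK k k'))),
      Cyc.pullFun p (fun _ => 0) (fun _ => 0) 0 W x' = W (p x') * (m x' : ℤ) := by
    intro W x'
    unfold Cyc.pullFun
    rw [if_pos (by simp)]
    have := hm x'
    rw [this]
    rfl
  have hminv : ∀ (σ : k' ≃ₐ[k] k') (x' : ↥(pullback f (sK k k'))), m (actOf f σ x') = m x' := by
    intro σ x'
    have h1 := fibLen_actOf f σ x'
    unfold fibLen fibIdeal at h1
    rw [hm, hm] at h1
    exact_mod_cast h1
  -- a set-theoretic section of `p`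
  haveI : Surjective p := MorphismProperty.pullback_fst _ _ inferInstance
  choose s hs using p.surjective
  set Z₀ : X → ℤ := fun x => ((q / m (s x) : ℕ) : ℤ) * Z' (s x) with hZ₀
  have key : ∀ x' : ↥(pullback f (sK k k')), (q : ℤ) * Z' x' = Z₀ (p x') * (m x' : ℤ) := by
    intro x'
    obtain ⟨σ, hσ⟩ := exists_actOf_eq f (s (p x')) x' (hs (p x'))
    have e1 : Z' x' = Z' (s (p x')) := by
      have := hZ' σ (s (p x'))
      rw [hσ] at this
      exact this
    have e2 : m x' = m (s (p x')) := by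
      have := hminv σ (s (p x'))
      rw [hσ] at this
      exact this
    rw [hZ₀]
    simp only
    rw [e1, e2]
    have e3 : ((q / m (s (p x')) : ℕ) : ℤ) * (m (s (p x')) : ℤ) = (q : ℤ) := by
      exact_mod_cast Nat.div_mul_cancel (hmq (s (p x')))
    rw [mul_right_comm, e3]
  -- local finiteness
  haveI : IsFinite p := MorphismProperty.pullback_fst _ _ inferInstance
  have hlf : LocallyFiniteSupport Z₀ := by
    refine locallyFiniteSupport_of_isClosedMap p p.isClosedMap (fun x => finite_fibre f x)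
      (⇑Z') Z'.locallyFiniteSupport Z₀ ?_
    intro x hx
    refine ⟨s x, hs x, fun h0 => hx ?_⟩
    rw [hZ₀]
    simp only
    rw [h0, mul_zero]
  let Z : AlgebraicCycle X ℤ := ⟨Z₀, Set.subset_univ _, fun z _ => hlf z⟩
  refine ⟨Z, fun x' => ?_, fun Z₁ hZ₁ => ?_⟩
  · rw [hpull]
    exact key x'
  · apply DFunLike.ext
    intro x
    have h1 := hZ₁ (s x)
    rw [hpull, hs x] at h1
    have h2 := key (s x)
    rw [hs x] at h2
    have h3 : Z₁ x * (m (s x) : ℤ) = Z₀ x * (m (s x) : ℤ) := by rw [← h1, ← h2]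
    have h4 : ((m (s x) : ℕ) : ℤ) ≠ 0 := by exact_mod_cast hm0 (s x)
    exact mul_right_cancel₀ h4 h3

end main

end Groth.Agent.Lib.Helper18.GalCyc
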