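import Groth.Agent.Lib.Helper18.GalFibre
import Groth.Agent.Lib.Helper18.PtCount.Immersion

/-! # Effective zero-cycles on `X` and Galois-invariant zero-cycles on `X_{k̄}` -/

set_option autoImplicit false
set_option linter.style.haveILetI false
set_option linter.unusedSectionVars false

universe u

open CategoryTheory CategoryTheory.Limits AlgebraicGeometry TensorProduct

namespace Groth.Agent.Lib.Helper18.GalCyc.ZeroCyc

open Groth.Agent.Lib.Helper18.GalFibre Groth.Agent.Lib.Helper18.Curve
  Groth.Agent.Lib.Helper18.PtCount

section algebra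

variable (k : Type u) [Field k] (K : Type u) [Field K] [Algebra k K]

/-- The number of primes of `K ⊗ F` for a finite separable extension `F/k` and a separably closed
field `K` is `[F : k]`. -/
theorem card_primeSpectrum_tensor_left (F : Type u) [Field F] [Algebra k F] [Module.Finite k F]
    [Algebra.IsSeparable k F] [IsSepClosed K] :
    Nat.card (PrimeSpectrum (K ⊗[k] F)) = Module.finrank k F := by
  haveI : Algebra.FormallyEtale k F := Algebra.FormallyEtale.of_isSeparable k F
  haveI : Module.Finite K (K ⊗[k] F) := inferInstance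
  haveI : IsArtinianRing (K ⊗[k] F) := isArtinian_of_tower K inferInstance
  haveI : Finite (PrimeSpectrum (K ⊗[k] F)) := inferInstance
  haveI : Fintype (PrimeSpectrum (K ⊗[k] F)) := Fintype.ofFinite _
  have e := Algebra.FormallyEtale.equivPiOfIsSepClosed K (K ⊗[k] F)
  have h1 := e.toLinearEquiv.finrank_eq
  rw [Module.finrank_baseChange, Module.finrank_fintype_fun_eq_card] at h1
  rw [Nat.card_eq_fintype_card, h1]

theorem card_primeSpectrum_tensor (F : Type u) [Field F] [Algebra k F] [Module.Finite k F]
    [Algebra.IsSeparable k F] [IsSepClosed K] :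
    Nat.card (PrimeSpectrum (F ⊗[k] K)) = Module.finrank k F := by
  rw [← card_primeSpectrum_tensor_left k K F]
  exact Nat.card_congr
    (PrimeSpectrum.comapEquiv (Algebra.TensorProduct.comm k K F).toRingEquiv).symm.toEquiv

end algebra

section fibre

variable {k : Type u} [Field k] {K : Type u} [Field K] [Algebra k K]

theorem card_pullback_field (F : Type u) [Field F] [Algebra k F] [Module.Finite k F]
    [Algebra.IsSeparable k F] [IsSepClosed K] :
    Nat.card ↥(pullback (Spec.map (CommRingCat.ofHom (algebraMap k F))) (sK k K)) =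
      Module.finrank k F := by
  rw [← card_primeSpectrum_tensor k K F]
  exact Nat.card_congr (Scheme.homeoOfIso (pullbackSpecIso k F K)).toEquiv

theorem card_pullback_congr {Y : Scheme.{u}} {g g' : Y ⟶ Spec (CommRingCat.of k)} (h : g = g') :
    Nat.card ↥(pullback g (sK k K)) = Nat.card ↥(pullback g' (sK k K)) := by
  subst h; rfl

variable {X : Scheme.{u}} (f : X ⟶ Spec (CommRingCat.of k))

theorem mapOf_injective (x : X) :
    Function.Injective (mapOf (K := K) (X.fromSpecResidueField x) f).base := by
  haveI : IsPreimmersion (mapOf (K := K) (X.fromSpecResidueField x) f) :=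
    MorphismProperty.of_isPullback (P := @IsPreimmersion)
      (isPullback_mapOf (K := K) (X.fromSpecResidueField x) f).flip inferInstance
  exact (mapOf (K := K) (X.fromSpecResidueField x) f).isEmbedding.injective

theorem range_mapOf (x : X) :
    Set.range (mapOf (K := K) (X.fromSpecResidueField x) f).base =
      (pullback.fst f (sK k K)).base ⁻¹' {x} := by
  let pt : ↥(Spec (X.residueField x)) := IsLocalRing.closedPoint _
  have hj : (X.fromSpecResidueField x).base pt = x := Scheme.fromSpecResidueField_apply x pt
  apply Set.Subset.antisymm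
  · rintro _ ⟨s, rfl⟩
    show (pullback.fst f (sK k K)).base ((mapOf (K := K) (X.fromSpecResidueField x) f).base s) = x
    rw [← Scheme.Hom.comp_apply, mapOf_fst, Scheme.Hom.comp_apply]
    exact Scheme.fromSpecResidueField_apply x _
  · intro t ht
    obtain ⟨s, hs, -⟩ := Scheme.exists_preimage_of_isPullback
      (isPullback_mapOf (K := K) (X.fromSpecResidueField x) f) t pt (by rw [hj]; exact ht)
    exact ⟨s, hs⟩

/-- The number of points of `X_K` over a closed point `x` of `X` is the residue degree, when
`k` is perfect and `K` is separably closed. -/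
theorem card_fibre [PerfectField k] [IsSepClosed K] [LocallyOfFiniteType f] {x : X}
    (hx : IsClosed ({x} : Set X)) :
    Nat.card ↥((pullback.fst f (sK k K)).base ⁻¹' {x}) = resDeg f x := by
  rw [← range_mapOf, Nat.card_range_of_injective (mapOf_injective f x),
    card_pullback_congr (fromSpecResidueField_comp f x)]
  letI := resAlg f x
  have hpos := resDeg_pos_of_isClosed f hx
  haveI : Module.Finite k (X.residueField x) := Module.finite_of_finrank_pos hpos
  haveI : Algebra.IsSeparable k (X.residueField x) := inferInstance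
  exact card_pullback_field (K := K) (X.residueField x)

end fibre

section topology

variable {k : Type u} [Field k] {K : Type u} [Field K] [Algebra k K]
variable {X : Scheme.{u}} (f : X ⟶ Spec (CommRingCat.of k))

theorem surjective_fst : Function.Surjective (pullback.fst f (sK k K)).base := by
  haveI : Surjective (sK k K) := by
    constructor
    intro y
    exact ⟨IsLocalRing.closedPoint K, Subsingleton.elim (α := PrimeSpectrum k) _ _⟩
  exact (pullback.fst f (sK k K)).surjective

theorem isClosedMap_fst [Algebra.IsAlgebraic k K] :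
    IsClosedMap (pullback.fst f (sK k K)).base := by
  haveI : IsIntegralHom (sK k K) := by
    rw [IsIntegralHom.SpecMap_iff]
    exact algebraMap_isIntegral_iff.mpr inferInstance
  exact (pullback.fst f (sK k K)).isClosedMap

theorem isClosed_fst_of_isClosed [Algebra.IsAlgebraic k K] {y : ↥(pullback f (sK k K))}
    (hy : IsClosed ({y} : Set ↥(pullback f (sK k K)))) :
    IsClosed ({(pullback.fst f (sK k K)).base y} : Set X) := by
  have := isClosedMap_fst (K := K) f _ hy
  rwa [Set.image_singleton] at this

/-- A finite nonempty closed subset of a T₀ space contains a closed point. -/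
theorem exists_isClosed_singleton_of_finite {α : Type*} [TopologicalSpace α] [T0Space α]
    {S : Set α} (hS : IsClosed S) (hfin : S.Finite) (hne : S.Nonempty) :
    ∃ x ∈ S, IsClosed ({x} : Set α) := by
  haveI : Finite ↥S := hfin
  haveI : Nonempty ↥S := hne.to_subtype
  obtain ⟨x, -, hx⟩ := (isClosed_univ (X := ↥S)).exists_closed_singleton Set.univ_nonempty
  refine ⟨x.1, x.2, ?_⟩
  have := hS.isClosedMap_subtype_val _ hx
  rwa [Set.image_singleton] at this

theorem isClosed_of_isClosed_fst [Normal k K] [LocallyOfFiniteType f]
    {y : ↥(pullback f (sK k K))}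
    (hy : IsClosed ({(pullback.fst f (sK k K)).base y} : Set X)) :
    IsClosed ({y} : Set ↥(pullback f (sK k K))) := by
  have hS : IsClosed ((pullback.fst f (sK k K)).base ⁻¹' {(pullback.fst f (sK k K)).base y}) :=
    hy.preimage (pullback.fst f (sK k K)).continuous
  obtain ⟨y₀, hy₀, hcl⟩ := exists_isClosed_singleton_of_finite hS
    (finite_fibre (K := K) f _) ⟨y, rfl⟩
  obtain ⟨σ, hσ⟩ := exists_actOf_eq f y₀ y hy₀
  have := (actHomeo f σ).isClosedMap _ hcl
  rwa [Set.image_singleton, actHomeo_apply, hσ] at this

end topology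

section sums

/-- Summation over the fibres of a map with finite fibres. -/
theorem finsum_comp_eq {A B : Type*} (p : A → B) (c : B → ℕ) (hfin : (Function.support c).Finite)
    (hfib : ∀ b, c b ≠ 0 → (p ⁻¹' {b}).Finite) :
    ∑ᶠ a, c (p a) = ∑ᶠ b, c b * Nat.card ↥(p ⁻¹' {b}) := by
  classical
  have hT : (p ⁻¹' Function.support c).Finite := hfin.preimage' (fun b hb => hfib b hb)
  have hsupp : Function.support (fun a => c (p a)) ⊆ ↑hT.toFinset := by
    intro a ha
    rw [Set.Finite.coe_toFinset]
    exact ha
  have hsupp' : Function.support (fun b => c b * Nat.card ↥(p ⁻¹' {b})) ⊆ ↑hfin.toFinset := by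
    intro b hb
    rw [Set.Finite.coe_toFinset]
    exact fun h0 => hb (by simp [h0])
  rw [finsum_eq_sum_of_support_subset _ hsupp, finsum_eq_sum_of_support_subset _ hsupp']
  rw [← Finset.sum_fiberwise_of_maps_to (s := hT.toFinset) (t := hfin.toFinset) (g := p)
    (fun a ha => by
      rw [Set.Finite.mem_toFinset] at ha ⊢
      exact ha)]
  refine Finset.sum_congr rfl (fun b hb => ?_)
  rw [Set.Finite.mem_toFinset] at hb
  have h1 : ∀ a ∈ hT.toFinset.filter (fun a => p a = b), c (p a) = c b := by
    intro a ha
    rw [(Finset.mem_filter.mp ha).2]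
  rw [Finset.sum_congr rfl h1, Finset.sum_const, smul_eq_mul, mul_comm]
  congr 1
  have h2 : (↑(hT.toFinset.filter (fun a => p a = b)) : Set A) = p ⁻¹' {b} := by
    ext a
    simp only [Finset.coe_filter, Set.Finite.mem_toFinset, Set.mem_preimage, Function.mem_support,
      Set.mem_setOf_eq, Set.mem_singleton_iff]
    constructor
    · exact fun h => h.2
    · intro h
      exact ⟨by rw [h]; exact hb, h⟩
  rw [← Set.ncard_coe_finset, h2]
  rfl

end sums

section main

variable {k : Type u} [Field k] {K : Type u} [Field K] [Algebra k K]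
variable {X : Scheme.{u}} (f : X ⟶ Spec (CommRingCat.of k))

theorem finsum_comp_fst [PerfectField k] [IsSepClosed K] [Normal k K] [LocallyOfFiniteType f]
    (c : X → ℕ) (hfin : (Function.support c).Finite)
    (hcl : ∀ x, c x ≠ 0 → IsClosed ({x} : Set X)) :
    ∑ᶠ y, c ((pullback.fst f (sK k K)).base y) = ∑ᶠ x, c x * EGA4loc.residueDegree f x := by
  rw [finsum_comp_eq _ c hfin (fun b _ => finite_fibre (K := K) f b)]
  refine finsum_congr (fun x => ?_)
  by_cases hx : c x = 0
  · rw [hx, zero_mul, zero_mul]
  · rw [card_fibre (K := K) f (hcl x hx), residueDegree_eq_resDeg]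

theorem bijOn_zeroCycles [PerfectField k] [IsSepClosed K] [Normal k K] [LocallyOfFiniteType f]
    (n : ℕ) :
    Set.BijOn (fun c : X → ℕ => c ∘ (pullback.fst f (sK k K)).base)
      {c : X → ℕ | (Function.support c).Finite ∧ (∀ x, c x ≠ 0 → IsClosed ({x} : Set X)) ∧
        ∑ᶠ x, c x * EGA4loc.residueDegree f x = n}
      {d : ↥(pullback f (sK k K)) → ℕ |
        (Function.support d).Finite ∧ (∀ y, d y ≠ 0 → IsClosed ({y} : Set _)) ∧
        ∑ᶠ y, d y = n ∧ ∀ (σ : K ≃ₐ[k] K) y, d ((actOf f σ).base y) = d y} := by
  have hsurj := surjective_fst (K := K) f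
  refine ⟨?_, ?_, ?_⟩
  · rintro c ⟨h1, h2, h3⟩
    refine ⟨?_, ?_, ?_, ?_⟩
    · exact h1.preimage' (fun b _ => finite_fibre (K := K) f b)
    · intro y hy
      exact isClosed_of_isClosed_fst f (h2 _ hy)
    · exact (finsum_comp_fst (K := K) f c h1 h2).trans h3
    · intro σ y
      show c ((pullback.fst f (sK k K)).base ((actOf f σ).base y)) = c _
      rw [fst_actOf_apply]
  · intro c _ c' _ h
    exact hsurj.injective_comp_right h
  · rintro d ⟨h1, h2, h3, h4⟩
    have key : (fun x => d (Function.surjInv hsurj x)) ∘ (pullback.fst f (sK k K)).base = d := by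
      funext y
      obtain ⟨σ, hσ⟩ := exists_actOf_eq f (Function.surjInv hsurj
        ((pullback.fst f (sK k K)).base y)) y (Function.surjInv_eq hsurj _)
      show d (Function.surjInv hsurj ((pullback.fst f (sK k K)).base y)) = d y
      rw [← h4 σ (Function.surjInv hsurj ((pullback.fst f (sK k K)).base y)), hσ]
    have hfin : (Function.support (fun x => d (Function.surjInv hsurj x))).Finite := by
      refine (h1.image (pullback.fst f (sK k K)).base).subset ?_
      intro x hx
      exact ⟨Function.surjInv hsurj x, hx, Function.surjInv_eq hsurj x⟩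
    have hcl : ∀ x, (fun x => d (Function.surjInv hsurj x)) x ≠ 0 → IsClosed ({x} : Set X) := by
      intro x hx
      have := isClosed_fst_of_isClosed (K := K) f (h2 _ hx)
      rwa [Function.surjInv_eq hsurj x] at this
    refine ⟨fun x => d (Function.surjInv hsurj x), ⟨hfin, hcl, ?_⟩, key⟩
    rw [← finsum_comp_fst (K := K) f _ hfin hcl, ← h3]
    exact finsum_congr (fun y => congrFun key y)

end main

end Groth.Agent.Lib.Helper18.GalCyc.ZeroCyc
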